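import Groth.Agent.FlatDescent.FibreFlat.Transfer
import Groth.Agent.FlatDescent.FibreDepth.RankConstr
import Groth.Agent.ModGroth.StalkBasis
import Groth.Agent.DCohPerf.FlatFP
import Groth.Agent.QCohLib.Pullback

/-!
# Ranks of modules at points and on fibres
-/

set_option linter.style.haveILetI false

universe u

open CategoryTheory CategoryTheory.Limits AlgebraicGeometry Topology
open Groth.Agent Groth.Agent.QCohLib
open scoped TensorProduct

namespace Groth.FlatDescent.FibreFlat

/-- The dimension of the fibre of a module does not change along an extension of fields. -/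
theorem finrank_tensor_field {R : Type u} [CommRing R] (K L : Type u) [Field K] [Field L] [Algebra R K] [Algebra R L]
    (σ : K →+* L) (hσ : ∀ r, σ (algebraMap R K r) = algebraMap R L r) (M : Type u) [AddCommGroup M] [Module R M] :
    Module.finrank L (L ⊗[R] M) = Module.finrank K (K ⊗[R] M) := by
  letI := σ.toAlgebra
  haveI : IsScalarTower R K L := IsScalarTower.of_algebraMap_eq fun r => (hσ r).symm
  rw [← (TensorProduct.AlgebraTensorModule.cancelBaseChange R K L L M).finrank_eq, Module.finrank_baseChange]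

/-- Base change to a further algebra. -/
theorem finrank_tensor_tensor {R R' : Type u} [CommRing R] [CommRing R'] [Algebra R R'] (L : Type u) [Field L]
    [Algebra R L] [Algebra R' L] [IsScalarTower R R' L] (M : Type u) [AddCommGroup M] [Module R M]
    [Module.Free R' (R' ⊗[R] M)] [Nontrivial R'] :
    Module.finrank L (L ⊗[R] M) = Module.finrank R' (R' ⊗[R] M) := by
  rw [← (TensorProduct.AlgebraTensorModule.cancelBaseChange R R' L L M).finrank_eq, Module.finrank_baseChange]

variable {X S : Scheme.{u}}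

/-- The dimension of the fibre of a module at a point. -/
noncomputable def rk (F : X.Modules) (x : X) : ℕ :=
  Module.finrank (IsLocalRing.ResidueField (X.presheaf.stalk x))
    (IsLocalRing.ResidueField (X.presheaf.stalk x) ⊗[X.presheaf.stalk x] F.presheaf.stalk x)

theorem rk_chart (F : X.Modules) [F.IsQuasicoherent] {U : X.Opens} (hU : IsAffineOpen U) {x : X} (hx : x ∈ U) :
    rk F x = Module.finrank (hU.primeIdealOf ⟨x, hx⟩).asIdeal.ResidueField
      ((hU.primeIdealOf ⟨x, hx⟩).asIdeal.ResidueField ⊗[Γ(X, U)] Γ(F, U)) := by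
  let Q := (hU.primeIdealOf ⟨x, hx⟩).asIdeal
  let κ := IsLocalRing.ResidueField (X.presheaf.stalk x)
  letI := X.presheaf.algebra_section_stalk (U := U) ⟨x, hx⟩
  haveI := hU.isLocalization_stalk ⟨x, hx⟩
  letI := germModule F x hx
  haveI : IsScalarTower Γ(X, U) (X.presheaf.stalk x) (F.presheaf.stalk x) :=
    IsScalarTower.of_algebraMap_smul fun _ _ => rfl
  haveI := isLocalizedModule_germ (M := F) hU x hx
  have hb : IsBaseChange (X.presheaf.stalk x) (germLinearMap F x hx) :=
    IsLocalizedModule.isBaseChange Q.primeCompl (X.presheaf.stalk x) (germLinearMap F x hx)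
  let e : κ ⊗[X.presheaf.stalk x] F.presheaf.stalk x ≃ₗ[κ] κ ⊗[Γ(X, U)] Γ(F, U) :=
    (TensorProduct.AlgebraTensorModule.congr (LinearEquiv.refl κ κ) hb.equiv.symm).trans
      (TensorProduct.AlgebraTensorModule.cancelBaseChange Γ(X, U) (X.presheaf.stalk x) κ κ Γ(F, U))
  have hf₁ : Q ≤ RingHom.ker (algebraMap Γ(X, U) κ) := fun b hb' => by
    show IsLocalRing.residue _ (algebraMap Γ(X, U) (X.presheaf.stalk x) b) = 0
    rw [IsLocalRing.residue_eq_zero_iff]
    exact (IsLocalization.AtPrime.to_map_mem_maximal_iff (X.presheaf.stalk x) Q b).mpr hb'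
  have hf₂ : Q.primeCompl ≤ (IsUnit.submonoid κ).comap (algebraMap Γ(X, U) κ) := fun b hb' =>
    (IsLocalization.map_units (X.presheaf.stalk x) (⟨b, hb'⟩ : Q.primeCompl)).map
      (IsLocalRing.residue (X.presheaf.stalk x))
  exact e.finrank_eq.trans (finrank_tensor_field Q.ResidueField κ
    (Ideal.ResidueField.lift Q (algebraMap Γ(X, U) κ) hf₁ hf₂)
    (fun r => Ideal.ResidueField.lift_algebraMap Q _ hf₁ hf₂ r) Γ(F, U))

/-- The level sets of the rank are locally constructible. -/
theorem isLocallyConstructible_rk_eq (F : X.Modules) (hF : CohB1.IsFP F) (n : ℕ) :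
    IsLocallyConstructible {x : X | rk F x = n} := by
  haveI : F.IsFinitePresentation := hF
  haveI : F.IsQuasicoherent := inferInstance
  intro x
  obtain ⟨_, ⟨U, hU, rfl⟩, hxU, -⟩ := X.isBasis_affineOpens.exists_subset_of_mem_open (Set.mem_univ x) isOpen_univ
  haveI : Module.FinitePresentation Γ(X, U) Γ(F, U) := finitePresentation_sections (M := F) hF hU
  let L : ℕ → Set (PrimeSpectrum Γ(X, U)) := fun r =>
    {Q | Module.finrank Q.asIdeal.ResidueField (Q.asIdeal.ResidueField ⊗[Γ(X, U)] Γ(F, U)) ≤ r}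
  have hL : ∀ r, IsConstructible (L r) := fun r => FibreDepth.isConstructible_finrank_le Γ(F, U) r
  let E : Set (PrimeSpectrum Γ(X, U)) :=
    {Q | Module.finrank Q.asIdeal.ResidueField (Q.asIdeal.ResidueField ⊗[Γ(X, U)] Γ(F, U)) = n}
  have hE : IsConstructible E := by
    rcases Nat.eq_zero_or_pos n with rfl | hn
    · have : E = L 0 := Set.ext fun Q => ⟨fun h => le_of_eq h, fun h => Nat.le_zero.mp h⟩
      exact this ▸ hL 0
    · have : E = L n ∩ (L (n - 1))ᶜ := by
        ext Q
        simp only [E, L, Set.mem_inter_iff, Set.mem_compl_iff, Set.mem_setOf_eq]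
        omega
      exact this ▸ (hL n).inter (hL (n - 1)).compl
  have hc := ProConsLib.isLocallyConstructible_preimage hU.isoSpec.hom
    (s := (E : Set ↥(Spec Γ(X, U)))) hE.isLocallyConstructible
  haveI : IsAffine (U : Scheme.{u}) := hU
  refine ⟨U, U.2.mem_nhds hxU, U.2, ?_⟩
  refine (show IsLocallyConstructible ((Scheme.Opens.ι U) ⁻¹' {x : X | rk F x = n}) from ?_).isConstructible
  convert hc using 1
  ext z
  show rk F z.1 = n ↔ _
  rw [rk_chart F hU z.2]
  rfl

/-- The rank of a module that is free near a point. -/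
theorem finrank_stalk_eq {G : X.Modules} {U : X.Opens} {n : ℕ} (i : G.restrict U.ι ≅ FlatMod.freeMod (↑U) n) {x : X}
    (hx : x ∈ U) : Module.finrank (X.presheaf.stalk x) (G.presheaf.stalk x) = n := by
  obtain ⟨b, hb⟩ := LocFreeAnn.exists_basis i
  have hB : ModGroth.LocBasis.IsBasis (O := X.sheaf) G b := fun W h => by convert! hb W h.le using 1
  let e := LinearEquiv.ofBijective _ (ModGroth.LocBasis.isStalkBasis_of_isBasis hB x hx)
  exact e.finrank_eq.symm.trans (Module.finrank_fin_fun _)

theorem isFinLocFreeOfRank_iff {G : X.Modules} (n : ℕ) :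
    FlatMod.IsFinLocFreeOfRank n G ↔
      FlatMod.IsFinLocFree G ∧ ∀ x, Module.finrank (X.presheaf.stalk x) (G.presheaf.stalk x) = n := by
  refine ⟨fun h => ⟨fun x => ?_, fun x => ?_⟩, fun ⟨h, hr⟩ x => ?_⟩
  · obtain ⟨U, hx, e⟩ := h x
    exact ⟨U, n, hx, e⟩
  · obtain ⟨U, hx, ⟨e⟩⟩ := h x
    exact finrank_stalk_eq e hx
  · obtain ⟨U, m, hx, ⟨e⟩⟩ := h x
    exact ⟨U, hx, ((finrank_stalk_eq e hx).symm.trans (hr x)) ▸ ⟨e⟩⟩

/-- Where the restriction to a fibre is free, its rank is the rank of the module. -/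
theorem finrank_fibre_stalk (f : X ⟶ S) [LocallyOfFinitePresentation f] (F : X.Modules) (hF : CohB1.IsFP F) {s : S} (v : f.fiber s)
    (hflat : FlatMod.IsFlatAt ((Scheme.Modules.pullback (f.fiberι s)).obj F) v) :
    Module.finrank ((f.fiber s).presheaf.stalk v)
      (((Scheme.Modules.pullback (f.fiberι s)).obj F).presheaf.stalk v) = rk F (f.fiberι s v) := by
  let x := f.fiberι s v
  let R' := (f.fiber s).presheaf.stalk v
  let φ := ((f.fiberι s).stalkMap v).hom
  let G := (Scheme.Modules.pullback (f.fiberι s)).obj F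
  haveI : Module.Finite R' (G.presheaf.stalk v) := FibreDepth.finite_fibN f F hF v
  haveI : Module.Flat R' (G.presheaf.stalk v) := hflat
  haveI : Module.Free R' (G.presheaf.stalk v) := Module.free_of_flat_of_isLocalRing
  letI : Algebra (X.presheaf.stalk x) R' := φ.toAlgebra
  let e : G.presheaf.stalk v ≃ₗ[R'] R' ⊗[X.presheaf.stalk x] F.presheaf.stalk x :=
    ((ModGroth.Stalk.pullStalkIso (f.fiberι s) v).app F).toLinearEquiv
  haveI : Module.Free R' (R' ⊗[X.presheaf.stalk x] F.presheaf.stalk x) := Module.Free.of_equiv e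
  rw [e.finrank_eq, ← finrank_tensor_tensor (IsLocalRing.ResidueField R') (F.presheaf.stalk x)]
  haveI : IsLocalHom φ := inferInstanceAs (IsLocalHom ((f.fiberι s).stalkMap v).hom)
  exact finrank_tensor_field (R := X.presheaf.stalk x) (IsLocalRing.ResidueField (X.presheaf.stalk x)) (IsLocalRing.ResidueField R')
    (IsLocalRing.ResidueField.map φ) (fun r => rfl) (F.presheaf.stalk x)

end Groth.FlatDescent.FibreFlat
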