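import Mathlib

/-!
# Flatness on the fibres of a module: algebra

For `A → C → B`, a `B`-module `M` and a prime `Q` of `B` over `p` in `A`, `FibFlatAt A C Q M` says that
`M_Q / p M_Q` is flat over `C / p C`.
-/

set_option linter.style.haveILetI false

universe u

open TensorProduct

namespace Groth.FlatDescent.FibreFlat

section Def

variable (A C : Type u) {B : Type u} [CommRing A] [CommRing C] [CommRing B] [Algebra A C] [Algebra A B] [Algebra C B]
  (Q : Ideal B) [Q.IsPrime]

/-- The ideal of the fibre. -/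
abbrev fibIdeal : Ideal C := (Q.comap (algebraMap A B)).map (algebraMap A C)

/-- The localised module is flat on the fibre. -/
def FibFlatAt (M : Type u) [AddCommGroup M] [Module C M] [Module B M] [IsScalarTower C B M] : Prop :=
  Module.Flat (C ⧸ fibIdeal A C Q) ((C ⧸ fibIdeal A C Q) ⊗[C] LocalizedModule Q.primeCompl M)

variable {M : Type u} [AddCommGroup M] [Module C M] [Module B M] [IsScalarTower C B M]

theorem fibFlatAt_iff_quot :
    FibFlatAt A C Q M ↔ Module.Flat (C ⧸ fibIdeal A C Q)
      (LocalizedModule Q.primeCompl M ⧸ fibIdeal A C Q • (⊤ : Submodule C (LocalizedModule Q.primeCompl M))) :=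
  Module.Flat.equiv_iff (LinearEquiv.extendScalarsOfSurjective (R := C) (S := C ⧸ fibIdeal A C Q)
    Ideal.Quotient.mk_surjective (TensorProduct.quotTensorEquivQuotSMul (LocalizedModule Q.primeCompl M) (fibIdeal A C Q)))

theorem fibFlatAt_iff_of_isLocalizedModule {X : Type u} [AddCommGroup X] [Module C X] [Module B X]
    [IsScalarTower C B X] (f : M →ₗ[B] X) [IsLocalizedModule Q.primeCompl f] :
    FibFlatAt A C Q M ↔ Module.Flat (C ⧸ fibIdeal A C Q) ((C ⧸ fibIdeal A C Q) ⊗[C] X) :=
  Module.Flat.equiv_iff (TensorProduct.AlgebraTensorModule.congr (LinearEquiv.refl (C ⧸ fibIdeal A C Q) _)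
    ((IsLocalizedModule.iso Q.primeCompl f).restrictScalars C))

theorem fibFlatAt_iff_quot_of_isLocalizedModule {X : Type u} [AddCommGroup X] [Module C X] [Module B X]
    [IsScalarTower C B X] (f : M →ₗ[B] X) [IsLocalizedModule Q.primeCompl f] :
    FibFlatAt A C Q M ↔ Module.Flat (C ⧸ fibIdeal A C Q) (X ⧸ fibIdeal A C Q • (⊤ : Submodule C X)) :=
  (fibFlatAt_iff_of_isLocalizedModule A C Q f).trans <|
    Module.Flat.equiv_iff (LinearEquiv.extendScalarsOfSurjective (R := C) (S := C ⧸ fibIdeal A C Q)
      Ideal.Quotient.mk_surjective (TensorProduct.quotTensorEquivQuotSMul X (fibIdeal A C Q)))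

end Def

section Localization

variable {C C' : Type u} [CommRing C] [CommRing C'] [Algebra C C']

/-- Flatness over quotients of localisations. -/
theorem flat_quot_localization_iff (S : Submonoid C) [IsLocalization S C'] (J : Ideal C) {X : Type u} [AddCommGroup X] [Module C X] [Module C' X] [IsScalarTower C C' X] :
    Module.Flat (C' ⧸ J.map (algebraMap C C')) (X ⧸ J.map (algebraMap C C') • (⊤ : Submodule C' X)) ↔
      Module.Flat (C ⧸ J) (X ⧸ J • (⊤ : Submodule C X)) := by
  set J' := J.map (algebraMap C C') with hJ'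
  let θ : C ⧸ J →+* C' ⧸ J' := Ideal.quotientMap J' (algebraMap C C') Ideal.le_comap_map
  letI : Algebra (C ⧸ J) (C' ⧸ J') := θ.toAlgebra
  haveI : IsLocalization (S.map (Ideal.Quotient.mk J)) (C' ⧸ J') := by
    refine (isLocalization_iff _ _).mpr ⟨?_, ?_, ?_⟩
    · rintro ⟨_, s, hs, rfl⟩
      exact (IsLocalization.map_units C' (⟨s, hs⟩ : S)).map (Ideal.Quotient.mk J')
    · intro z
      obtain ⟨z, rfl⟩ := Ideal.Quotient.mk_surjective z
      obtain ⟨⟨c, s⟩, h⟩ := IsLocalization.surj S z
      exact ⟨⟨Ideal.Quotient.mk J c, ⟨_, s.1, s.2, rfl⟩⟩, congrArg (Ideal.Quotient.mk J') h⟩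
    · intro a b
      obtain ⟨a, rfl⟩ := Ideal.Quotient.mk_surjective a
      obtain ⟨b, rfl⟩ := Ideal.Quotient.mk_surjective b
      intro h
      have h' : algebraMap C C' (a - b) ∈ J' := by
        rw [map_sub]
        exact Ideal.Quotient.eq.mp h
      obtain ⟨⟨j, s⟩, hs⟩ := (IsLocalization.mem_map_algebraMap_iff S C').mp h'
      rw [← map_mul] at hs
      obtain ⟨t, ht⟩ := IsLocalization.exists_of_eq (M := S) hs
      refine ⟨⟨_, (t * s : S), (t * s).2, rfl⟩, ?_⟩
      show Ideal.Quotient.mk J (t * s : S) * Ideal.Quotient.mk J a = Ideal.Quotient.mk J (t * s : S) * Ideal.Quotient.mk J b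
      rw [← map_mul, ← map_mul, Ideal.Quotient.eq, ← mul_sub,
        show ((t * s : S) : C) * (a - b) = (t : C) * ((a - b) * s) by push_cast; ring, ht]
      exact J.mul_mem_left _ j.2
  let Y := X ⧸ J' • (⊤ : Submodule C' X)
  letI : Module (C ⧸ J) Y := Module.compHom Y θ
  haveI : IsScalarTower (C ⧸ J) (C' ⧸ J') Y := IsScalarTower.of_algebraMap_smul fun _ _ => rfl
  haveI : IsScalarTower C (C ⧸ J) Y := IsScalarTower.of_algebraMap_smul fun c y => by
    show Ideal.Quotient.mk J' (algebraMap C C' c) • y = c • y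
    obtain ⟨y, rfl⟩ := Submodule.Quotient.mk_surjective _ y
    show Submodule.Quotient.mk (algebraMap C C' c • y) = Submodule.Quotient.mk (c • y)
    rw [algebraMap_smul]
  have he : J • (⊤ : Submodule C X) = (J' • (⊤ : Submodule C' X)).restrictScalars C := by
    rw [hJ', Submodule.restrictScalars_map_smul_eq, Submodule.restrictScalars_top]
  let e : (X ⧸ J • (⊤ : Submodule C X)) ≃ₗ[C] Y :=
    (Submodule.quotEquivOfEq _ _ he).trans (Submodule.Quotient.restrictScalarsEquiv C (J' • (⊤ : Submodule C' X)))
  rw [Module.flat_iff_of_isLocalization (C' ⧸ J') (S.map (Ideal.Quotient.mk J)) Y]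
  exact (Module.Flat.equiv_iff (LinearEquiv.extendScalarsOfSurjective (R := C) (S := C ⧸ J)
    Ideal.Quotient.mk_surjective e)).symm

end Localization

/-- Flatness of a map of quotients. -/
theorem quotientMap_flat_iff {R S : Type u} [CommRing R] [CommRing S] (φ : R →+* S) (I : Ideal R) :
    (Ideal.quotientMap (I.map φ) φ Ideal.le_comap_map).Flat ↔
      letI := φ.toAlgebra
      Module.Flat (R ⧸ I) (S ⧸ I • (⊤ : Submodule R S)) := by
  letI := φ.toAlgebra
  letI : Algebra (R ⧸ I) (S ⧸ I.map φ) := (Ideal.quotientMap (I.map φ) φ Ideal.le_comap_map).toAlgebra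
  haveI : IsScalarTower R (R ⧸ I) (S ⧸ I.map φ) := IsScalarTower.of_algebraMap_eq fun _ => rfl
  let e : (S ⧸ I • (⊤ : Submodule R S)) ≃ₗ[R] S ⧸ I.map φ :=
    (Submodule.quotEquivOfEq _ _ (Ideal.smul_top_eq_map I)).trans (Submodule.Quotient.restrictScalarsEquiv R (I.map φ))
  exact (Module.Flat.equiv_iff (LinearEquiv.extendScalarsOfSurjective (R := R) (S := R ⧸ I)
    Ideal.Quotient.mk_surjective e)).symm

section Surjective

variable (A C : Type u) {P B M : Type u} [CommRing A] [CommRing C] [CommRing P] [CommRing B] [Algebra A C] [Algebra A P]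
  [Algebra A B] [Algebra C P] [Algebra C B] [Algebra P B] [IsScalarTower A P B]
  [AddCommGroup M] [Module C M] [Module P M] [Module B M] [IsScalarTower C P M] [IsScalarTower C B M]
  [IsScalarTower P B M] (Q : Ideal B) [Q.IsPrime]

theorem fibFlatAt_of_surjective (h : Function.Surjective (algebraMap P B)) :
    FibFlatAt A C (Q.comap (algebraMap P B)) M ↔ FibFlatAt A C Q M := by
  let f := LocalizedModule.mkLinearMap Q.primeCompl M
  haveI : IsScalarTower C P (LocalizedModule Q.primeCompl M) := IsScalarTower.of_algebraMap_smul fun c x => by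
    induction x using LocalizedModule.induction_on with
    | h m s => rw [LocalizedModule.smul'_mk, LocalizedModule.smul'_mk, algebraMap_smul]
  haveI : IsLocalizedModule (Q.comap (algebraMap P B)).primeCompl (f.restrictScalars P) := by
    constructor
    · intro s
      have := (Module.End.isUnit_iff _).mp (IsLocalizedModule.map_units f (⟨algebraMap P B s, s.2⟩ : Q.primeCompl))
      refine (Module.End.isUnit_iff _).mpr ?_
      convert this using 1
      funext x
      exact (algebraMap_smul B (s : P) x).symm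
    · intro x
      obtain ⟨⟨m, s⟩, hs⟩ := IsLocalizedModule.surj Q.primeCompl f x
      obtain ⟨t, ht⟩ := h s
      refine ⟨⟨m, ⟨t, fun ht' => s.2 (ht ▸ ht')⟩⟩, ?_⟩
      show t • x = f m
      rw [← algebraMap_smul B t x, ht]
      exact hs
    · intro a b hab
      obtain ⟨s, hs⟩ := IsLocalizedModule.exists_of_eq (S := Q.primeCompl) (f := f) hab
      obtain ⟨t, ht⟩ := h s
      refine ⟨⟨t, fun ht' => s.2 (ht ▸ ht')⟩, ?_⟩
      show t • a = t • b
      rw [← algebraMap_smul B t a, ← algebraMap_smul B t b, ht]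
      exact hs
  have e : fibIdeal A C (Q.comap (algebraMap P B)) = fibIdeal A C Q := by
    rw [fibIdeal, fibIdeal, Ideal.comap_comap, ← IsScalarTower.algebraMap_eq]
  rw [fibFlatAt_iff_of_isLocalizedModule A C (Q.comap (algebraMap P B)) (f.restrictScalars P), e]
  rfl

end Surjective

theorem fibFlatAt_self_of_flat (A C : Type u) {B : Type u} [CommRing A] [CommRing C] [CommRing B] [Algebra A C]
    [Algebra A B] [Algebra C B] [Module.Flat C B] (Q : Ideal B) [Q.IsPrime] : FibFlatAt A C Q B := by
  rw [fibFlatAt_iff_of_isLocalizedModule A C Q (Algebra.linearMap B (Localization.AtPrime Q))]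
  haveI : Module.Flat B (Localization.AtPrime Q) := IsLocalization.flat (Localization.AtPrime Q) Q.primeCompl
  haveI : Module.Flat C (Localization.AtPrime Q) := Module.Flat.trans C B _
  infer_instance

end Groth.FlatDescent.FibreFlat
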