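import Groth.Agent.FlatDescent.FibreFlat.Rank
import Groth.Agent.FlatDescent.RestrictFlat
import Groth.Agent.FlatDescent.SheafBC.Base
import Groth.Agent.DCohPerf.FreeLocal

/-!
# The fibrewise criterion of flatness for modules on schemes
-/

set_option linter.style.haveILetI false

universe u

open CategoryTheory CategoryTheory.Limits AlgebraicGeometry Topology
open Groth.Agent Groth.Agent.QCohLib

namespace Groth.FlatDescent.FibreFlat

variable {X Y S : Scheme.{u}}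

/-- Flatness over the identity is flatness. -/
theorem isFlatOverAt_id_iff (G : X.Modules) (x : X) : FlatMod.IsFlatOverAt (𝟙 X) G x ↔ FlatMod.IsFlatAt G x := by
  have e : FlatMod.moduleStalkOver (𝟙 X) G x = FlatMod.moduleStalk G x := by
    refine Module.ext' _ _ fun r m => ?_
    exact congrArg (fun φ => φ.hom r • m) (Scheme.Hom.stalkMap_id X x)
  show @Module.Flat _ _ _ _ (FlatMod.moduleStalkOver (𝟙 X) G x) ↔ @Module.Flat _ _ _ _ (FlatMod.moduleStalk G x)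
  rw [e]
  rfl

theorem fibFlatAt_congr {A C B M : Type u} [CommRing A] [CommRing C] [CommRing B] [Algebra A C] [Algebra C B]
    [AddCommGroup M] [Module C M] [Module B M] [IsScalarTower C B M] (Q : Ideal B) [Q.IsPrime] (a b : Algebra A B)
    (h : ∀ r : A, (letI := a; algebraMap A B r) = (letI := b; algebraMap A B r)) :
    (letI := a; FibFlatAt A C Q M) ↔ (letI := b; FibFlatAt A C Q M) := by
  obtain rfl : a = b := Algebra.algebra_ext _ _ h
  exact Iff.rfl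

theorem fibFlatAt_of_flatAt (A C : Type u) {B M : Type u} [CommRing A] [CommRing C] [CommRing B] [Algebra A C]
    [Algebra A B] [Algebra C B] [AddCommGroup M] [Module C M] [Module B M] [IsScalarTower C B M] (Q : Ideal B)
    [Q.IsPrime] (h : FlatCA.FlatAt C Q M) : FibFlatAt A C Q M := by
  haveI : Module.Flat C (LocalizedModule Q.primeCompl M) := h
  show Module.Flat _ _
  infer_instance

/-- **Fibrewise criterion of flatness** for a module at a point. -/
theorem flat_modFibFlat_iff (f : X ⟶ Y) (g : Y ⟶ S) [LocallyOfFinitePresentation (f ≫ g)] [LocallyOfFiniteType g]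
    (F : X.Modules) (hF : CohB1.IsFP F) (x : X) :
    (FlatMod.IsFlatOverAt (f ≫ g) F x ∧ ModFibFlat f g F x → FlatMod.IsFlatOverAt f F x) ∧
    (Nontrivial (F.presheaf.stalk x) → FlatMod.IsFlatOverAt (f ≫ g) F x → FlatMod.IsFlatOverAt f F x →
      (g.stalkMap (f x)).hom.Flat) ∧
    ((g.stalkMap (f x)).hom.Flat → FlatMod.IsFlatOverAt f F x →
      FlatMod.IsFlatOverAt (f ≫ g) F x ∧ ModFibFlat f g F x) := by
  haveI : F.IsFinitePresentation := hF
  haveI : F.IsQuasicoherent := inferInstance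
  obtain ⟨_, ⟨W, hW, rfl⟩, hsW, -⟩ :=
    S.isBasis_affineOpens.exists_subset_of_mem_open (Set.mem_univ (g (f x))) isOpen_univ
  obtain ⟨_, ⟨V, hV, rfl⟩, hyV, eV⟩ := Y.isBasis_affineOpens.exists_subset_of_mem_open hsW (g ⁻¹ᵁ W).2
  obtain ⟨_, ⟨U, hU, rfl⟩, hxU, eU⟩ := X.isBasis_affineOpens.exists_subset_of_mem_open hyV (f ⁻¹ᵁ V).2
  have eUW : U ≤ (f ≫ g) ⁻¹ᵁ W := fun z hz => eV (eU hz)
  letI := (g.appLE W V eV).hom.toAlgebra
  letI := (f.appLE V U eU).hom.toAlgebra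
  letI := ((f ≫ g).appLE W U eUW).hom.toAlgebra
  haveI : IsScalarTower Γ(S, W) Γ(Y, V) Γ(X, U) :=
    IsScalarTower.of_algebraMap_eq' congr(($((Scheme.Hom.appLE_comp_appLE f g W V U eV eU).symm)).hom)
  letI := appLEModule f F V U eU
  letI := appLEModule (f ≫ g) F W U eUW
  haveI : IsScalarTower Γ(Y, V) Γ(X, U) Γ(F, U) := IsScalarTower.of_algebraMap_smul fun _ _ => rfl
  haveI : IsScalarTower Γ(S, W) Γ(X, U) Γ(F, U) := IsScalarTower.of_algebraMap_smul fun _ _ => rfl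
  haveI : Algebra.FiniteType Γ(S, W) Γ(Y, V) :=
    HasRingHomProperty.appLE @LocallyOfFiniteType g inferInstance ⟨W, hW⟩ ⟨V, hV⟩ eV
  haveI : Algebra.FinitePresentation Γ(S, W) Γ(X, U) :=
    HasRingHomProperty.appLE @LocallyOfFinitePresentation (f ≫ g) inferInstance ⟨W, hW⟩ ⟨U, hU⟩ eUW
  haveI : Module.FinitePresentation Γ(X, U) Γ(F, U) := finitePresentation_sections (M := F) hF hU
  let Q := (hU.primeIdealOf ⟨x, hxU⟩).asIdeal
  have hfg : FlatMod.IsFlatOverAt (f ≫ g) F x ↔ FlatCA.FlatAt Γ(S, W) Q Γ(F, U) :=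
    isFlatOverAt_iff (f ≫ g) F hW hU eUW hxU
  have hf : FlatMod.IsFlatOverAt f F x ↔ FlatCA.FlatAt Γ(Y, V) Q Γ(F, U) := isFlatOverAt_iff f F hV hU eU hxU
  have hg : (g.stalkMap (f x)).hom.Flat ↔
      FlatCA.FlatAt Γ(S, W) (hV.primeIdealOf ⟨f x, hyV⟩).asIdeal Γ(Y, V) := flat_stalkMap_iff g hW hV eV hyV
  have hq : (hV.primeIdealOf ⟨f x, hyV⟩).asIdeal = Q.comap (algebraMap Γ(Y, V) Γ(X, U)) :=
    (congrArg PrimeSpectrum.asIdeal (IsAffineOpen.comap_primeIdealOf_appLE (f := f) V hV U hU eU hxU)).symm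
  simp only [hq] at hg
  have hm : ModFibFlat f g F x ↔ FibFlatAt Γ(S, W) Γ(Y, V) Q Γ(F, U) := by
    exact (modFibFlat_iff f g F hW hV eV hU eU hxU).trans (fibFlatAt_congr Q _ _ fun a =>
      (IsScalarTower.algebraMap_apply Γ(S, W) Γ(Y, V) Γ(X, U) a).symm)
  rw [hfg, hf, hg, hm]
  refine ⟨fun ⟨h1, h2⟩ => flat_fibre_criterion_ft Γ(S, W) Γ(Y, V) Q h1 ((fibFlatAt_iff_quot _ _ _).1 h2),
    fun hn h1 h2 => ?_, fun h1 h2 => ⟨flatAt_trans Γ(S, W) Q h1 h2, fibFlatAt_of_flatAt _ _ Q h2⟩⟩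
  letI := germModule F x hxU
  haveI := isLocalizedModule_germ (M := F) hU x hxU
  haveI : Nontrivial (LocalizedModule Q.primeCompl Γ(F, U)) :=
    (IsLocalizedModule.iso Q.primeCompl (germLinearMap F x hxU)).toEquiv.nontrivial
  exact flatAt_base_of_flatAt Γ(S, W) Q h1 h2

/-- A finitely presented module that is flat at a point is free near it. -/
theorem exists_free_nhd (F : X.Modules) (hF : CohB1.IsFP F) (x : X) (h : FlatMod.IsFlatAt F x) :
    ∃ (U : X.Opens) (n : ℕ), x ∈ U ∧ Nonempty (F.restrict U.ι ≅ FlatMod.freeMod (↑U) n) := by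
  haveI : F.IsFinitePresentation := hF
  haveI : F.IsQuasicoherent := inferInstance
  let U : X.Opens := ⟨{z | FlatMod.IsFlatOverAt (𝟙 X) F z}, isOpen_flatLocus_sheaf (𝟙 X) F hF⟩
  have hxU : x ∈ U := (isFlatOverAt_id_iff F x).2 h
  have hflat : FlatMod.IsFlat (F.restrict U.ι) := fun y => by
    have h1 : FlatMod.IsFlatOverAt (U.ι ≫ 𝟙 X) (F.restrict U.ι) y := (isFlatOverAt_restrict U.ι (𝟙 X) F y).2 y.2
    rw [show U.ι ≫ 𝟙 X = 𝟙 (U : Scheme.{u}) ≫ U.ι by simp] at h1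
    exact (isFlatOverAt_id_iff _ y).1 ((SheafBC.isFlatOverAt_comp_iff (𝟙 _) U.ι _ y).1 h1)
  have hfp : CohB1.IsFP (F.restrict U.ι) :=
    DCohPerf.isFP_of_iso ((Scheme.Modules.restrictFunctorIsoPullback U.ι).app F).symm
      (QCohLib.isFinitePresentation_pullback _ _ hF)
  obtain ⟨V, n, hxV, ⟨e⟩⟩ := DCohPerf.isFinLocFree_of_isFP_flat hfp hflat ⟨x, hxU⟩
  let j := V.ι ≫ U.ι
  refine ⟨j.opensRange, n, ⟨⟨⟨x, hxU⟩, hxV⟩, rfl⟩, ⟨?_⟩⟩
  exact ((Scheme.Modules.restrictFunctorCongr j.isoOpensRange_inv_comp).app F).symm ≪≫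
    (Scheme.Modules.restrictFunctorComp j.isoOpensRange.inv j).app F ≪≫
      (Scheme.Modules.restrictFunctor j.isoOpensRange.inv).mapIso
        ((Scheme.Modules.restrictFunctorComp V.ι U.ι).app F ≪≫ e) ≪≫ LocFree.restrictFreeIso _ n

end Groth.FlatDescent.FibreFlat
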