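import Groth.Agent.FlatDescent.FibreFlat.Algebra

/-!
# Flatness on the fibres of a trivial square-zero extension
-/

set_option linter.style.haveILetI false

universe u

open TensorProduct TrivSqZeroExt

namespace Groth.FlatDescent.FibreFlat

theorem flat_prodMk {K : Type u} [CommRing K] (M N : Type u) [AddCommGroup M] [Module K M] [AddCommGroup N]
    [Module K N] [Module.Flat K M] [Module.Flat K N] : Module.Flat K (M × N) := by
  refine Module.Flat.iff_rTensor_preserves_injective_linearMap.2 fun {P Q} _ _ _ _ f hf => ?_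
  intro x y hxy
  have hnat : ∀ z, TensorProduct.prodRight K K Q M N (f.rTensor (M × N) z) =
      (f.rTensor M (TensorProduct.prodRight K K P M N z).1, f.rTensor N (TensorProduct.prodRight K K P M N z).2) := by
    intro z
    induction z using TensorProduct.induction_on with
    | zero => simp [Prod.mk_zero_zero]
    | tmul p m => simp
    | add a b ha hb => simp [map_add, ha, hb]
  apply (TensorProduct.prodRight K K P M N).injective
  have h := congrArg (TensorProduct.prodRight K K Q M N) hxy
  rw [hnat, hnat, Prod.mk.injEq] at h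
  exact Prod.ext (Module.Flat.rTensor_preserves_injective_linearMap f hf h.1)
    (Module.Flat.rTensor_preserves_injective_linearMap f hf h.2)

variable (A C P : Type u) [CommRing A] [CommRing C] [CommRing P] [Algebra A C] [Algebra A P] [Algebra C P]
  (M : Type u) [AddCommGroup M] [Module P M] [Module Pᵐᵒᵖ M] [IsCentralScalar P M]
  [Module A M] [IsScalarTower A P M] [Module C M] [IsScalarTower C P M]

/-- The underlying module of the extension. -/
noncomputable def sqZeroEquiv : TrivSqZeroExt P M ≃ₗ[P] P × M where
  toFun x := (fst x, snd x)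
  map_add' x y := Prod.ext (fst_add x y) (snd_add x y)
  map_smul' r x := Prod.ext (fst_smul r x) (snd_smul r x)
  invFun z := inl z.1 + inr z.2
  left_inv x := inl_fst_add_inr_snd_eq x
  right_inv z := Prod.ext (by simp) (by simp)

theorem isScalarTower_sqZero : IsScalarTower C P (TrivSqZeroExt P M) :=
  IsScalarTower.of_algebraMap_eq fun _ => rfl

theorem finitePresentation_sqZero [Algebra.FinitePresentation C P] [Module.FinitePresentation P M] :
    Algebra.FinitePresentation C (TrivSqZeroExt P M) := by
  haveI := isScalarTower_sqZero C P M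
  haveI : Module.FinitePresentation P (TrivSqZeroExt P M) :=
    Module.FinitePresentation.of_equiv (sqZeroEquiv P M).symm
  exact Algebra.FinitePresentation.trans C P (TrivSqZeroExt P M)

variable (Q : Ideal P) [Q.IsPrime]

/-- Flatness on the fibres of the extension is that of both summands. -/
theorem fibFlatAt_sqZero :
    FibFlatAt A C (Q.comap (fstHom P P M).toRingHom) (TrivSqZeroExt P M) ↔ FibFlatAt A C Q P ∧ FibFlatAt A C Q M := by
  haveI := isScalarTower_sqZero A P M
  haveI := isScalarTower_sqZero C P M
  set Q' := Q.comap (fstHom P P M).toRingHom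
  let R := TrivSqZeroExt P M
  let f := LocalizedModule.mkLinearMap Q'.primeCompl R
  let L := LocalizedModule Q'.primeCompl R
  have hmem : ∀ r : R, r ∈ Q'.primeCompl ↔ fst r ∉ Q := fun r => Iff.rfl
  haveI : IsScalarTower P R L := inferInstance
  have hcut : ∀ r : R, r * (inl (fst r) - inr (snd r)) = algebraMap P R (fst r * fst r) := fun r => by
    refine TrivSqZeroExt.ext ?_ ?_
    · rw [fst_mul, sub_eq_add_neg, fst_add, fst_neg, fst_inl, fst_inr, neg_zero, add_zero]
      rfl
    · rw [snd_mul, sub_eq_add_neg, fst_add, fst_neg, fst_inl, fst_inr, neg_zero, add_zero, snd_add, snd_neg, snd_inl,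
        snd_inr, zero_add, op_smul_eq_smul, smul_neg, neg_add_cancel]
      rfl
  haveI : IsLocalizedModule Q.primeCompl (f.restrictScalars P) := by
    constructor
    · intro s
      have hs : algebraMap P R s ∈ Q'.primeCompl := (hmem _).mpr s.2
      have := (Module.End.isUnit_iff _).mp (IsLocalizedModule.map_units f (⟨_, hs⟩ : Q'.primeCompl))
      refine (Module.End.isUnit_iff _).mpr ?_
      convert this using 1
      funext x
      exact (algebraMap_smul R (s : P) x).symm
    · intro x
      obtain ⟨⟨m, s⟩, hs⟩ := IsLocalizedModule.surj Q'.primeCompl f x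
      refine ⟨⟨(inl (fst (s : R)) - inr (snd (s : R))) * m,
        ⟨fst (s : R) * fst (s : R), Q.primeCompl.mul_mem ((hmem _).mp s.2) ((hmem _).mp s.2)⟩⟩, ?_⟩
      show (fst (s : R) * fst (s : R)) • x = f ((inl (fst (s : R)) - inr (snd (s : R))) • m)
      rw [map_smul, ← hs, Submonoid.smul_def, smul_smul, ← algebraMap_smul R (fst (s : R) * fst (s : R)) x, ← hcut,
        mul_comm]
    · intro a b hab
      obtain ⟨s, hs⟩ := IsLocalizedModule.exists_of_eq (S := Q'.primeCompl) (f := f) hab
      refine ⟨⟨fst (s : R) * fst (s : R), Q.primeCompl.mul_mem ((hmem _).mp s.2) ((hmem _).mp s.2)⟩, ?_⟩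
      show (fst (s : R) * fst (s : R)) • a = (fst (s : R) * fst (s : R)) • b
      rw [← algebraMap_smul R (fst (s : R) * fst (s : R)) a, ← algebraMap_smul R (fst (s : R) * fst (s : R)) b, ← hcut,
        mul_comm, mul_smul, mul_smul]
      exact congrArg _ hs
  let LP := LocalizedModule Q.primeCompl P
  let LM := LocalizedModule Q.primeCompl M
  let g : R →ₗ[P] LP × LM := ((LocalizedModule.mkLinearMap Q.primeCompl P).prodMap
    (LocalizedModule.mkLinearMap Q.primeCompl M)).comp (sqZeroEquiv P M).toLinearMap
  haveI : IsLocalizedModule Q.primeCompl g := IsLocalizedModule.of_linearEquiv_right Q.primeCompl _ (sqZeroEquiv P M)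
  haveI : IsScalarTower C P L := IsScalarTower.of_algebraMap_smul fun c x => by
    rw [← algebraMap_smul R (algebraMap C P c) x, ← IsScalarTower.algebraMap_apply C P R, algebraMap_smul]
  let E : L ≃ₗ[C] LP × LM := ((IsLocalizedModule.linearEquiv Q.primeCompl (f.restrictScalars P) g).restrictScalars C)
  have e : fibIdeal A C Q' = fibIdeal A C Q := by
    rw [fibIdeal, fibIdeal, Ideal.comap_comap]
    congr 2
  show Module.Flat (C ⧸ fibIdeal A C Q') ((C ⧸ fibIdeal A C Q') ⊗[C] L) ↔ _
  rw [e]
  let K := C ⧸ fibIdeal A C Q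
  let T : K ⊗[C] L ≃ₗ[K] (K ⊗[C] LP) × (K ⊗[C] LM) :=
    (TensorProduct.AlgebraTensorModule.congr (LinearEquiv.refl K K) E).trans (TensorProduct.prodRight C K K LP LM)
  rw [Module.Flat.equiv_iff T]
  constructor
  · intro h
    exact ⟨Module.Flat.of_retract (LinearMap.inl K (K ⊗[C] LP) (K ⊗[C] LM)) (LinearMap.fst K _ _) (LinearMap.fst_comp_inl ..),
      Module.Flat.of_retract (LinearMap.inr K (K ⊗[C] LP) (K ⊗[C] LM)) (LinearMap.snd K _ _) (LinearMap.snd_comp_inr ..)⟩
  · rintro ⟨h1, h2⟩
    haveI : Module.Flat K (K ⊗[C] LP) := h1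
    haveI : Module.Flat K (K ⊗[C] LM) := h2
    exact flat_prodMk _ _

end Groth.FlatDescent.FibreFlat
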