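import Groth.Agent.FlatDescent.FibreFlat.Scheme
import Groth.Agent.FlatDescent.FibreFlat.SquareZero
import Groth.Agent.QCohLib.FiniteType
import Groth.Prelude.Def_CohB1

/-!
# Flatness of a module on the fibres is a constructible condition
-/

set_option linter.style.haveILetI false

universe u

open CategoryTheory CategoryTheory.Limits AlgebraicGeometry Topology TopologicalSpace
open Groth.Agent Groth.Agent.FibConstr Groth.Agent.QCohLib

namespace Groth.FlatDescent.FibreFlat

variable {X Y S : Scheme.{u}}

/-- The affine case. -/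
theorem exists_preimage_fibFlatAt (A C B M : Type u) [CommRing A] [CommRing C] [CommRing B] [Algebra A C] [Algebra A B]
    [Algebra C B] [IsScalarTower A C B] [AddCommGroup M] [Module C M] [Module B M] [IsScalarTower C B M]
    [Algebra.FinitePresentation A C] [Algebra.FinitePresentation C B] [Module.FinitePresentation B M] :
    IsLocallyConstructible (X := Spec (CommRingCat.of B)) {Q : PrimeSpectrum B | FibFlatAt A C Q.asIdeal M} := by
  obtain ⟨n, φ, hφ, hker⟩ := Algebra.FinitePresentation.out (R := C) (A := B)
  let P := MvPolynomial (Fin n) C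
  letI : Algebra P B := φ.toRingHom.toAlgebra
  haveI : IsScalarTower C P B := IsScalarTower.of_algebraMap_eq fun c => (φ.commutes c).symm
  haveI : IsScalarTower A P B := IsScalarTower.of_algebraMap_eq fun a => by
    rw [IsScalarTower.algebraMap_apply A C B, IsScalarTower.algebraMap_apply A C P,
      ← IsScalarTower.algebraMap_apply C P B]
  haveI : Module.FinitePresentation P B := Module.finitePresentation_of_surjective (Algebra.linearMap P B) hφ hker
  letI : Module P M := Module.compHom M φ.toRingHom
  haveI : IsScalarTower P B M := IsScalarTower.of_algebraMap_smul fun _ _ => rfl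
  haveI : IsScalarTower C P M := IsScalarTower.of_algebraMap_smul fun c m => by
    show φ (algebraMap C P c) • m = c • m
    rw [φ.commutes]
    exact algebraMap_smul B c m
  letI : Module A M := Module.compHom M (algebraMap A C)
  haveI : IsScalarTower A C M := IsScalarTower.of_algebraMap_smul fun _ _ => rfl
  haveI : IsScalarTower A P M := IsScalarTower.of_algebraMap_smul fun a m => by
    rw [IsScalarTower.algebraMap_apply A C P, algebraMap_smul, algebraMap_smul]
  haveI : Module.FinitePresentation P M := Module.FinitePresentation.trans P M B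
  letI : Module Pᵐᵒᵖ M := Module.compHom M ((RingHom.id P).fromOpposite mul_comm)
  haveI : IsCentralScalar P M := ⟨fun _ _ => rfl⟩
  let R := TrivSqZeroExt P M
  haveI := isScalarTower_sqZero C P M
  haveI := isScalarTower_sqZero A P M
  haveI : IsScalarTower A C R := IsScalarTower.of_algebraMap_eq fun a => by
    rw [IsScalarTower.algebraMap_apply A P R, IsScalarTower.algebraMap_apply C P R, IsScalarTower.algebraMap_apply A C P]
  haveI : Algebra.FinitePresentation C R := finitePresentation_sqZero C P M
  let χ := Spec.map (CommRingCat.ofHom (algebraMap C R))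
  let ψ := Spec.map (CommRingCat.ofHom (algebraMap A C))
  haveI : LocallyOfFinitePresentation χ :=
    (HasRingHomProperty.Spec_iff (P := @LocallyOfFinitePresentation)).mpr
      (RingHom.finitePresentation_algebraMap.mpr inferInstance)
  haveI : LocallyOfFinitePresentation ψ :=
    (HasRingHomProperty.Spec_iff (P := @LocallyOfFinitePresentation)).mpr
      (RingHom.finitePresentation_algebraMap.mpr inferInstance)
  let π : R →+* B := (algebraMap P B).comp (TrivSqZeroExt.fstHom P P M).toRingHom
  have h : {Q : PrimeSpectrum B | FibFlatAt A C Q.asIdeal M} =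
      (Spec.map (CommRingCat.ofHom π)) ⁻¹' {Q | FibFlat χ ψ Q} := by
    ext Q
    show FibFlatAt A C Q.asIdeal M ↔ FibFlat χ ψ (PrimeSpectrum.comap π Q)
    rw [fibFlat_Spec_iff A C R]
    show _ ↔ FibFlatAt A C ((Q.asIdeal.comap (algebraMap P B)).comap (TrivSqZeroExt.fstHom P P M).toRingHom) R
    rw [fibFlatAt_sqZero A C P M, fibFlatAt_of_surjective A C (M := M) Q.asIdeal hφ]
    exact (and_iff_right (fibFlatAt_self_of_flat A C _)).symm
  refine Eq.subst (motive := fun E => IsLocallyConstructible (X := Spec (CommRingCat.of B)) E) h.symm ?_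
  exact ProConsLib.isLocallyConstructible_preimage _ (isLocallyConstructible_fibFlat χ ψ)

/-- **Flatness of a module on the fibres over the base is locally constructible in the source.** -/
theorem isLocallyConstructible_modFibFlat (f : X ⟶ Y) (g : Y ⟶ S) [LocallyOfFinitePresentation g]
    [LocallyOfFinitePresentation (f ≫ g)] (F : X.Modules) (hF : CohB1.IsFP F) :
    IsLocallyConstructible {x : X | ModFibFlat f g F x} := by
  haveI : LocallyOfFinitePresentation f :=
    FibrewiseCrit.locallyOfFinitePresentation_of_comp f g inferInstance inferInstance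
  haveI : F.IsFinitePresentation := hF
  haveI : F.IsQuasicoherent := inferInstance
  intro x
  obtain ⟨_, ⟨W, hW, rfl⟩, hsW, -⟩ :=
    S.isBasis_affineOpens.exists_subset_of_mem_open (Set.mem_univ (g (f x))) isOpen_univ
  obtain ⟨_, ⟨V, hV, rfl⟩, hyV, eV⟩ := Y.isBasis_affineOpens.exists_subset_of_mem_open hsW (g ⁻¹ᵁ W).2
  obtain ⟨_, ⟨U, hU, rfl⟩, hxU, eU⟩ := X.isBasis_affineOpens.exists_subset_of_mem_open hyV (f ⁻¹ᵁ V).2
  letI := (g.appLE W V eV).hom.toAlgebra
  letI := (f.appLE V U eU).hom.toAlgebra
  letI : Algebra Γ(S, W) Γ(X, U) := ((algebraMap Γ(Y, V) Γ(X, U)).comp (algebraMap Γ(S, W) Γ(Y, V))).toAlgebra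
  haveI : IsScalarTower Γ(S, W) Γ(Y, V) Γ(X, U) := IsScalarTower.of_algebraMap_eq fun _ => rfl
  letI := appLEModule f F V U eU
  haveI : IsScalarTower Γ(Y, V) Γ(X, U) Γ(F, U) := IsScalarTower.of_algebraMap_smul fun _ _ => rfl
  haveI : Algebra.FinitePresentation Γ(S, W) Γ(Y, V) :=
    HasRingHomProperty.appLE @LocallyOfFinitePresentation g inferInstance ⟨W, hW⟩ ⟨V, hV⟩ eV
  haveI : Algebra.FinitePresentation Γ(Y, V) Γ(X, U) :=
    HasRingHomProperty.appLE @LocallyOfFinitePresentation f inferInstance ⟨V, hV⟩ ⟨U, hU⟩ eU
  haveI : Module.FinitePresentation Γ(X, U) Γ(F, U) := finitePresentation_sections (M := F) hF hU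
  have hc := ProConsLib.isLocallyConstructible_preimage hU.isoSpec.hom
    (exists_preimage_fibFlatAt Γ(S, W) Γ(Y, V) Γ(X, U) Γ(F, U))
  haveI : IsAffine (U : Scheme.{u}) := hU
  refine ⟨U, U.2.mem_nhds hxU, U.2, ?_⟩
  refine (show IsLocallyConstructible ((Scheme.Opens.ι U) ⁻¹' {x : X | ModFibFlat f g F x}) from ?_).isConstructible
  convert hc using 1
  ext z
  exact modFibFlat_iff f g F hW hV eV hU eU z.2

/-- The base points over which the module is flat on the fibre. -/
theorem isLocallyConstructible_forall_modFibFlat (f : X ⟶ Y) (g : Y ⟶ S) [LocallyOfFinitePresentation g]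
    [LocallyOfFinitePresentation (f ≫ g)] [QuasiCompact (f ≫ g)] (F : X.Modules) (hF : CohB1.IsFP F) :
    IsLocallyConstructible {s : S | ∀ x, (f ≫ g) x = s → ModFibFlat f g F x} :=
  isLocallyConstructible_forall (f ≫ g) (isLocallyConstructible_modFibFlat f g F hF)

end Groth.FlatDescent.FibreFlat
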