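import Groth.Agent.FlatDescent.FibreFlat.Algebra
import Groth.Agent.FlatDescent.Sheaf
import Groth.Agent.FlatDescent.FibreBC
import Groth.Agent.FlatDescent.CM.Affine
import Groth.Agent.FibConstr.SmoothLocus

/-!
# The locus of flatness on the fibres: morphisms and affine charts
-/

set_option linter.style.haveILetI false

universe u

open CategoryTheory CategoryTheory.Limits AlgebraicGeometry Topology
open Groth.Agent Groth.Agent.FibConstr Groth.Agent.QCohLib

namespace Groth.FlatDescent.FibreFlat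

variable {W X Y S : Scheme.{u}}

/-- The points at which a morphism is flat on the fibre over the base. -/
def fibFlatLocus ⦃X Y S : Scheme.{u}⦄ (f : X ⟶ Y) (g : Y ⟶ S) : Set X := {x | FibFlat f g x}

theorem fibFlat_comp_left (j : W ⟶ X) [IsOpenImmersion j] (f : X ⟶ Y) (g : Y ⟶ S) (w : W) :
    FibFlat (j ≫ f) g w ↔ FibFlat f g (j w) := by
  let φ := (f.stalkMap (j w)).hom
  let χ := (j.stalkMap w).hom
  have hχ : Function.Bijective χ := ConcreteCategory.bijective_of_isIso (j.stalkMap w)
  let I := maxExt g (f (j w))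
  let ψ := ((j ≫ f).stalkMap w).hom
  have hψ : ψ = χ.comp φ := by
    show ((j ≫ f).stalkMap w).hom = _
    rw [Scheme.Hom.stalkMap_comp]
    rfl
  let b := (Ideal.Quotient.mk (Ideal.map ψ I)).comp χ
  have hb : Function.Surjective b := Ideal.Quotient.mk_surjective.comp hχ.2
  have hk : (RingHom.ker (Ideal.Quotient.mk I)).map φ = RingHom.ker b := by
    rw [Ideal.mk_ker, RingHom.ker_eq_comap_bot, ← Ideal.comap_comap, ← RingHom.ker_eq_comap_bot, Ideal.mk_ker, hψ]
    exact (Ideal.comap_map_of_bijective χ hχ).symm.trans (congrArg (Ideal.comap χ) (Ideal.map_map φ χ))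
  rw [show FibFlat (j ≫ f) g w ↔ _ from flat_iff_quotientMap φ (Ideal.Quotient.mk I) Ideal.Quotient.mk_surjective b hb hk
    (Ideal.quotientMap (Ideal.map ψ I) ψ Ideal.le_comap_map)
    (RingHom.ext fun r => congrArg (Ideal.Quotient.mk _) (RingHom.congr_fun hψ r))]
  exact flat_quotientMap_congr φ Ideal.mk_ker

theorem fibFlat_comp_right (f : X ⟶ W) (j : W ⟶ Y) [IsOpenImmersion j] (g : Y ⟶ S) (x : X) :
    FibFlat (f ≫ j) g x ↔ FibFlat f (j ≫ g) x := by
  let φ := (f.stalkMap x).hom
  let χ := (j.stalkMap (f x)).hom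
  have hχ : Function.Bijective χ := ConcreteCategory.bijective_of_isIso (j.stalkMap (f x))
  let I := maxExt g (j (f x))
  let ψ := ((f ≫ j).stalkMap x).hom
  have hψ : ψ = φ.comp χ := by
    show ((f ≫ j).stalkMap x).hom = _
    rw [Scheme.Hom.stalkMap_comp]
    rfl
  have hI : maxExt (j ≫ g) (f x) = I.map χ := maxExt_comp j g (f x)
  let a := (Ideal.Quotient.mk (I.map χ)).comp χ
  have ha : Function.Surjective a := Ideal.Quotient.mk_surjective.comp hχ.2
  have hka : RingHom.ker a = I := by
    rw [RingHom.ker_eq_comap_bot, ← Ideal.comap_comap, ← RingHom.ker_eq_comap_bot, Ideal.mk_ker,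
      Ideal.comap_map_of_bijective χ hχ]
  let b := Ideal.Quotient.mk ((I.map χ).map φ)
  have hk : (RingHom.ker a).map ψ = RingHom.ker b := by
    rw [hka, Ideal.mk_ker, hψ]
    exact (Ideal.map_map χ φ).symm
  have key := flat_iff_quotientMap ψ a ha b Ideal.Quotient.mk_surjective hk
    (Ideal.quotientMap ((I.map χ).map φ) φ Ideal.le_comap_map)
    (RingHom.ext fun r => congrArg (Ideal.Quotient.mk _) (RingHom.congr_fun hψ r).symm)
  exact (flat_quotientMap_congr ψ hka).symm.trans (key.symm.trans (flat_quotientMap_congr φ hI).symm)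

theorem goodLocus_fibFlatLocus : GoodLocus.{u} fibFlatLocus where
  bc X Y S X' Y' S' f g f' g' eX eY h hY hX hg hf := by
    ext x'
    refine ⟨fun h' => fibFlat_of_baseChange f g hY hX x' h', fun h' => ?_⟩
    let s' := (f' ≫ g') x'
    let GY : g'.fiber s' ⟶ g.fiber (h s') := pullback.map g' (S'.fromSpecResidueField s') g (S.fromSpecResidueField (h s'))
      eY (Spec.map (h.residueFieldMap s')) h hY.w.symm (by simp)
    have hGY : GY ≫ g.fiberι (h s') = g'.fiberι s' ≫ eY := pullback.lift_fst _ _ _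
    have sq := isPullback_fibreMap f g (h s')
    let GX := sq.lift ((f' ≫ g').fiberι s' ≫ eX) (fibreMap f' g' s' ≫ GY) (by
      rw [Category.assoc, hX.w, Category.assoc, hGY, ← Category.assoc, ← Category.assoc,
        (isPullback_fibreMap f' g' s').w])
    have h1 : GX ≫ (f ≫ g).fiberι (h s') = (f' ≫ g').fiberι s' ≫ eX := sq.lift_fst _ _ _
    have hsq : IsPullback GX (fibreMap f' g' s') (fibreMap f g (h s')) GY :=
      IsPullback.of_right (by rw [h1, hGY]; exact (isPullback_fibreMap f' g' s').paste_horiz hX)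
        (sq.lift_snd _ _ _) sq
    let z := (f' ≫ g').asFiber x'
    have hz : (f ≫ g).fiberι (h s') (GX z) = eX x' := by
      rw [← Scheme.Hom.comp_apply, h1, Scheme.Hom.comp_apply]
      exact congrArg eX ((f' ≫ g').fiberι_asFiber x')
    have h2 : ((fibreMap f g (h s')).stalkMap (GX z)).hom.Flat := by
      rw [flat_fiberMap_iff f g (h s') (fibreMap f g (h s')) sq.w.symm, hz]
      exact h'
    have h3 := (flat_fiberMap_iff f' g' s' (fibreMap f' g' s') (isPullback_fibreMap f' g' s').w.symm z).1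
      (flat_stalkMap_of_isPullback hsq z h2)
    rw [show (f' ≫ g').fiberι s' z = x' from (f' ≫ g').fiberι_asFiber x'] at h3
    exact h3
  openLeft W X Y S j _ f g _ _ := Set.ext fun w => fibFlat_comp_left j f g w
  openMid X V Y S f j _ g _ _ := Set.ext fun x => fibFlat_comp_right f j g x
  isOpen X Y S f g _ _ _ _ := by
    have e : fibFlatLocus f g = {x : X | (f.stalkMap x).hom.Flat} := by
      ext x
      exact ⟨fun h => (flat_of_fibFlat f g x (Flat.stalkMap (f ≫ g) x) h).2, fun h => fibFlat_of_flat f g x h⟩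
    exact e ▸ isOpen_flatLocus_over f g

/-- Flatness on the fibres is a locally constructible condition on the source. -/
theorem isLocallyConstructible_fibFlat (f : X ⟶ Y) (g : Y ⟶ S) [LocallyOfFinitePresentation g]
    [LocallyOfFinitePresentation (f ≫ g)] : IsLocallyConstructible {x : X | FibFlat f g x} :=
  goodLocus_fibFlatLocus.isLocallyConstructible f g

section Spec

variable (A C R : Type u) [CommRing A] [CommRing C] [CommRing R] [Algebra A C] [Algebra A R] [Algebra C R]
  [IsScalarTower A C R]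

/-- Flatness on the fibres for affine schemes. -/
theorem fibFlat_Spec_iff (Q : PrimeSpectrum R) :
    FibFlat (Spec.map (CommRingCat.ofHom (algebraMap C R))) (Spec.map (CommRingCat.ofHom (algebraMap A C))) Q ↔
      FibFlatAt A C Q.asIdeal R := by
  let φ := Spec.map (CommRingCat.ofHom (algebraMap C R))
  let ψ := Spec.map (CommRingCat.ofHom (algebraMap A C))
  let q : PrimeSpectrum C := PrimeSpectrum.comap (algebraMap C R) Q
  let Cy := (Spec (CommRingCat.of C)).presheaf.stalk (φ Q)
  let Rx := (Spec (CommRingCat.of R)).presheaf.stalk Q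
  letI : Algebra C Cy := (StructureSheaf.toStalk C q).hom.toAlgebra
  haveI : IsLocalization q.asIdeal.primeCompl Cy := StructureSheaf.IsLocalization.to_stalk C q
  letI : Algebra R Rx := (StructureSheaf.toStalk R Q).hom.toAlgebra
  haveI : IsLocalization Q.asIdeal.primeCompl Rx := StructureSheaf.IsLocalization.to_stalk R Q
  letI : Algebra Cy Rx := (φ.stalkMap Q).hom.toAlgebra
  letI : Algebra C Rx := ((algebraMap R Rx).comp (algebraMap C R)).toAlgebra
  haveI : IsScalarTower C R Rx := IsScalarTower.of_algebraMap_eq fun _ => rfl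
  haveI : IsScalarTower C Cy Rx := IsScalarTower.of_algebraMap_eq fun c =>
    (stalkMap_toStalk_apply (CommRingCat.ofHom (algebraMap C R)) Q c).symm
  have hI : maxExt ψ (φ Q) = (fibIdeal A C Q.asIdeal).map (algebraMap C Cy) := by
    have h := CM.maxExt_Spec (A := A) (B := C) q
    refine h.trans ?_
    rw [fibIdeal]
    congr 2
    show (q.asIdeal.comap (algebraMap A C)) = Q.asIdeal.comap (algebraMap A R)
    rw [IsScalarTower.algebraMap_eq A C R, ← Ideal.comap_comap]
    rfl
  refine (flat_quotientMap_congr (φ.stalkMap Q).hom hI).trans ((quotientMap_flat_iff _ _).trans ?_)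
  refine Iff.trans ?_ (fibFlatAt_iff_quot_of_isLocalizedModule A C Q.asIdeal (Algebra.linearMap R Rx)).symm
  exact flat_quot_localization_iff q.asIdeal.primeCompl (fibIdeal A C Q.asIdeal)

end Spec

section Module

/-- The module is flat on the fibre over the base at `x`: `F_x / m F_x` over `O_y / m O_y`. -/
def ModFibFlat (f : X ⟶ Y) (g : Y ⟶ S) (F : X.Modules) (x : X) : Prop :=
  letI := FlatMod.moduleStalkOver f F x
  Module.Flat (↑(Y.presheaf.stalk (f x)) ⧸ maxExt g (f x))
    (↑(F.presheaf.stalk x) ⧸ (maxExt g (f x) • (⊤ : Submodule ↑(Y.presheaf.stalk (f x)) ↑(F.presheaf.stalk x))))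

theorem flat_quot_smul_congr {R M : Type u} [CommRing R] [AddCommGroup M] [Module R M] {I I' : Ideal R} (h : I = I') :
    Module.Flat (R ⧸ I) (M ⧸ I • (⊤ : Submodule R M)) ↔ Module.Flat (R ⧸ I') (M ⧸ I' • (⊤ : Submodule R M)) := by
  subst h; rfl

/-- Flatness of a module on the fibres, in affine charts. -/
theorem modFibFlat_iff (f : X ⟶ Y) (g : Y ⟶ S) (F : X.Modules) [F.IsQuasicoherent] {W : S.Opens} (hW : IsAffineOpen W)
    {V : Y.Opens} (hV : IsAffineOpen V) (eV : V ≤ g ⁻¹ᵁ W) {U : X.Opens} (hU : IsAffineOpen U) (eU : U ≤ f ⁻¹ᵁ V)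
    {x : X} (hx : x ∈ U) :
    ModFibFlat f g F x ↔
      letI := (g.appLE W V eV).hom.toAlgebra
      letI := (f.appLE V U eU).hom.toAlgebra
      letI : Algebra Γ(S, W) Γ(X, U) := ((algebraMap Γ(Y, V) Γ(X, U)).comp (algebraMap Γ(S, W) Γ(Y, V))).toAlgebra
      letI := appLEModule f F V U eU
      haveI : IsScalarTower Γ(Y, V) Γ(X, U) Γ(F, U) := IsScalarTower.of_algebraMap_smul fun _ _ => rfl
      FibFlatAt Γ(S, W) Γ(Y, V) (hU.primeIdealOf ⟨x, hx⟩).asIdeal Γ(F, U) := by
  letI := (g.appLE W V eV).hom.toAlgebra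
  letI := (f.appLE V U eU).hom.toAlgebra
  letI : Algebra Γ(S, W) Γ(X, U) := ((algebraMap Γ(Y, V) Γ(X, U)).comp (algebraMap Γ(S, W) Γ(Y, V))).toAlgebra
  letI := appLEModule f F V U eU
  haveI : IsScalarTower Γ(Y, V) Γ(X, U) Γ(F, U) := IsScalarTower.of_algebraMap_smul fun _ _ => rfl
  have hy : f x ∈ V := eU hx
  have hs : g (f x) ∈ W := eV hy
  letI := Y.presheaf.algebra_section_stalk (U := V) ⟨f x, hy⟩
  haveI := hV.isLocalization_stalk ⟨f x, hy⟩
  letI : Module (Y.presheaf.stalk (f x)) (F.presheaf.stalk x) := FlatMod.moduleStalkOver f F x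
  letI := germModule F x hx
  letI : Module Γ(Y, V) (F.presheaf.stalk x) := Module.compHom _ (algebraMap Γ(Y, V) (Y.presheaf.stalk (f x)))
  haveI : IsScalarTower Γ(Y, V) (Y.presheaf.stalk (f x)) (F.presheaf.stalk x) :=
    IsScalarTower.of_algebraMap_smul fun _ _ => rfl
  haveI : IsScalarTower Γ(Y, V) Γ(X, U) (F.presheaf.stalk x) := IsScalarTower.of_algebraMap_smul fun b m => by
    show X.presheaf.germ U x hx (f.appLE V U eU b) • m = (f.stalkMap x) (Y.presheaf.germ V (f x) hy b) • m
    rw [Scheme.Hom.germ_stalkMap_apply, Scheme.Hom.appLE, CommRingCat.comp_apply, TopCat.Presheaf.germ_res_apply]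
  haveI := isLocalizedModule_germ (M := F) hU x hx
  let Q := (hU.primeIdealOf ⟨x, hx⟩).asIdeal
  have hI : maxExt g (f x) = (fibIdeal Γ(S, W) Γ(Y, V) Q).map (algebraMap Γ(Y, V) (Y.presheaf.stalk (f x))) := by
    letI := S.presheaf.algebra_section_stalk (U := W) ⟨g (f x), hs⟩
    haveI := hW.isLocalization_stalk ⟨g (f x), hs⟩
    have hp : Q.comap (algebraMap Γ(S, W) Γ(X, U)) = (hW.primeIdealOf ⟨g (f x), hs⟩).asIdeal := by
      have h1 := congrArg PrimeSpectrum.asIdeal (IsAffineOpen.comap_primeIdealOf_appLE (f := f) V hV U hU eU hx)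
      have h2 := congrArg PrimeSpectrum.asIdeal (IsAffineOpen.comap_primeIdealOf_appLE (f := g) W hW V hV eV hy)
      show Q.comap ((f.appLE V U eU).hom.comp (g.appLE W V eV).hom) = _
      rw [← Ideal.comap_comap, show Q.comap (f.appLE V U eU).hom = (hV.primeIdealOf ⟨f x, hy⟩).asIdeal from h1]
      exact h2
    rw [fibIdeal, maxExt, ← IsLocalization.AtPrime.map_eq_maximalIdeal (hW.primeIdealOf ⟨g (f x), hs⟩).asIdeal
      (S.presheaf.stalk (g (f x))), ← hp, Ideal.map_map, Ideal.map_map]
    congr 1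
    ext b
    show (g.stalkMap (f x)) (S.presheaf.germ W (g (f x)) hs b) = Y.presheaf.germ V (f x) hy (g.appLE W V eV b)
    rw [Scheme.Hom.germ_stalkMap_apply, Scheme.Hom.appLE, CommRingCat.comp_apply, TopCat.Presheaf.germ_res_apply]
  show Module.Flat _ _ ↔ _
  refine (flat_quot_smul_congr hI).trans ?_
  rw [flat_quot_localization_iff (hV.primeIdealOf ⟨f x, hy⟩).asIdeal.primeCompl (fibIdeal Γ(S, W) Γ(Y, V) Q)]
  exact (fibFlatAt_iff_quot_of_isLocalizedModule Γ(S, W) Γ(Y, V) Q (germLinearMap F x hx)).symm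

end Module

end Groth.FlatDescent.FibreFlat
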