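import Groth.Agent.FlatDescent.FibreFlat.Main
import Groth.Agent.GeomUnib.StalkLength
import Groth.Prelude.Def_FlatMod2

/-!
# The restriction of a module to the fibres
-/

set_option linter.style.haveILetI false

universe u

open CategoryTheory CategoryTheory.Limits AlgebraicGeometry Topology
open Groth.Agent

namespace Groth.FlatDescent.FibreFlat

/-- Flatness along a semilinear bijection over an isomorphism of rings. -/
theorem flat_iff_of_semilinear {R R' M M' : Type u} [CommRing R] [CommRing R'] [AddCommGroup M] [Module R M]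
    [AddCommGroup M'] [Module R' M'] (α : R →+* R') (hα : Function.Bijective α) (e : M ≃+ M')
    (he : ∀ r m, e (r • m) = α r • e m) : Module.Flat R M ↔ Module.Flat R' M' := by
  letI := α.toAlgebra
  letI : Module R M' := Module.compHom M' α
  haveI : IsScalarTower R R' M' := IsScalarTower.of_algebraMap_smul fun _ _ => rfl
  haveI : IsLocalization (⊥ : Submonoid R) R' := by
    haveI : IsLocalization (⊥ : Submonoid R) R :=
      IsLocalization.self (fun x hx => by rw [Submonoid.mem_bot.mp hx]; exact isUnit_one)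
    exact IsLocalization.isLocalization_of_algEquiv ⊥ (AlgEquiv.ofBijective (Algebra.ofId R R') hα)
  rw [Module.flat_iff_of_isLocalization R' (⊥ : Submonoid R) M']
  exact Module.Flat.equiv_iff { e with map_smul' := he }

variable {X Y X' Y' S : Scheme.{u}}

/-- Flatness of the restriction of a module to a fibre is flatness on the fibre. -/
theorem isFlatOverAt_pullback_iff (f : X ⟶ Y) (g : Y ⟶ S) (F : X.Modules) (ιX : X' ⟶ X) (ιY : Y' ⟶ Y) (fs : X' ⟶ Y')
    (w : fs ≫ ιY = ιX ≫ f) (x' : X') (hXs : Function.Surjective (ιX.stalkMap x'))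
    (hXk : RingHom.ker (ιX.stalkMap x').hom = maxExt (f ≫ g) (ιX x'))
    (hYs : Function.Surjective (ιY.stalkMap (fs x')))
    (hYk : RingHom.ker (ιY.stalkMap (fs x')).hom = maxExt g (ιY (fs x'))) :
    FlatMod.IsFlatOverAt fs ((Scheme.Modules.pullback ιX).obj F) x' ↔ ModFibFlat f g F (ιX x') := by
  let x := ιX x'
  let y' := fs x'
  have hy : ιY y' = f x := by rw [← Scheme.Hom.comp_apply, w]; rfl
  let a := (Y.presheaf.stalkCongr (.of_eq hy.symm)).hom ≫ ιY.stalkMap y'
  have ha : Function.Surjective a.hom :=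
    hYs.comp (ConcreteCategory.bijective_of_isIso (Y.presheaf.stalkCongr (.of_eq hy.symm)).hom).2
  have hka : RingHom.ker a.hom = maxExt g (f x) := by
    have key : ∀ (y : Y) (h : ιY y' = y),
        RingHom.ker ((Y.presheaf.stalkCongr (.of_eq h.symm)).hom ≫ ιY.stalkMap y').hom = maxExt g y := by
      rintro _ rfl
      rw [show (Y.presheaf.stalkCongr (.of_eq (rfl : ιY y' = _))).hom = 𝟙 _ by simp, Category.id_comp]
      exact hYk
    exact key _ hy
  have hsq : a ≫ fs.stalkMap x' = f.stalkMap x ≫ ιX.stalkMap x' := by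
    have h := Scheme.Hom.stalkMap_congr_hom _ _ w.symm x'
    rw [Scheme.Hom.stalkMap_comp, Scheme.Hom.stalkMap_comp] at h
    exact (Category.assoc _ _ _).trans h.symm
  let F' := (Scheme.Modules.pullback ιX).obj F
  let I := maxExt g (f x)
  let J := maxExt (f ≫ g) x
  obtain ⟨e, he⟩ := GeomUnib.extend_addEquiv (ιX.stalkMap x').hom hXs J hXk _ _
    ((ModGroth.Stalk.pullStalkIso ιX x').app F)
  let e' : (F.presheaf.stalk x ⧸ (J • (⊤ : Submodule (X.presheaf.stalk x) (F.presheaf.stalk x)))) ≃+
      F'.presheaf.stalk x' := e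
  have he' : ∀ (b : X.presheaf.stalk x) m, e' (b • m) = ιX.stalkMap x' b • e' m := he
  letI : Module (Y.presheaf.stalk (f x)) (F.presheaf.stalk x) := FlatMod.moduleStalkOver f F x
  letI : Algebra (Y.presheaf.stalk (f x)) (X.presheaf.stalk x) := (f.stalkMap x).hom.toAlgebra
  haveI : IsScalarTower (Y.presheaf.stalk (f x)) (X.presheaf.stalk x) (F.presheaf.stalk x) :=
    IsScalarTower.of_algebraMap_smul fun _ _ => rfl
  letI := FlatMod.moduleStalkOver fs F' x'
  have hJ : I • (⊤ : Submodule (Y.presheaf.stalk (f x)) (F.presheaf.stalk x)) =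
      (J • (⊤ : Submodule (X.presheaf.stalk x) (F.presheaf.stalk x))).restrictScalars _ := by
    rw [show J = I.map (algebraMap _ _) from maxExt_comp f g x, Submodule.restrictScalars_map_smul_eq,
      Submodule.restrictScalars_top]
  let E : (F.presheaf.stalk x ⧸ I • (⊤ : Submodule (Y.presheaf.stalk (f x)) (F.presheaf.stalk x))) ≃+
      F'.presheaf.stalk x' :=
    ((Submodule.quotEquivOfEq _ _ hJ).trans (Submodule.Quotient.restrictScalarsEquiv _ _)).toAddEquiv.trans e'
  let α : Y.presheaf.stalk (f x) ⧸ I →+* Y'.presheaf.stalk y' :=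
    Ideal.Quotient.lift I a.hom fun r hr => by rwa [← RingHom.mem_ker, hka]
  have hα : Function.Bijective α :=
    ⟨RingHom.lift_injective_of_ker_le_ideal _ _ hka.le, Ideal.Quotient.lift_surjective_of_surjective _ _ ha⟩
  refine (flat_iff_of_semilinear α hα E fun r m => ?_).symm
  obtain ⟨r, rfl⟩ := Ideal.Quotient.mk_surjective r
  obtain ⟨m, rfl⟩ := Submodule.Quotient.mk_surjective _ m
  show e' (Submodule.Quotient.mk (f.stalkMap x r • m)) = fs.stalkMap x' (a r) • e' (Submodule.Quotient.mk m)
  rw [show fs.stalkMap x' (a r) = ιX.stalkMap x' (f.stalkMap x r) from congr($hsq r)]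
  exact (congrArg e' (Submodule.Quotient.mk_smul _ _ _)).trans (he' _ _)

/-- Local rings of a fibre given by a pullback square. -/
theorem stalkMap_of_isPullback {Z : Scheme.{u}} {ι : Z ⟶ X} {s : S} {p : Z ⟶ Spec (S.residueField s)} {g : X ⟶ S}
    (h : IsPullback ι p g (S.fromSpecResidueField s)) (z : Z) :
    Function.Surjective (ι.stalkMap z) ∧ RingHom.ker (ι.stalkMap z).hom = maxExt g (ι z) := by
  suffices key : ∀ (k : Z ⟶ g.fiber s) [IsIso k] (w : k ≫ g.fiberι s = ι),
      Function.Surjective (ι.stalkMap z) ∧ RingHom.ker (ι.stalkMap z).hom = maxExt g (ι z) from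
    key h.isoPullback.hom h.isoPullback_hom_fst
  intro k _ w
  clear h
  subst w
  have hb : Function.Bijective (k.stalkMap z).hom := ConcreteCategory.bijective_of_isIso (k.stalkMap z)
  rw [Scheme.Hom.stalkMap_comp]
  refine ⟨hb.2.comp ((g.fiberι s).stalkMap_surjective _), ?_⟩
  show RingHom.ker ((k.stalkMap z).hom.comp ((g.fiberι s).stalkMap (k z)).hom) = _
  rw [RingHom.ker_comp_of_injective _ hb.1]
  exact ker_stalkMap_fiberι g s (k z)

/-- Flatness of the restriction to the fibres, for fibres given by pullback squares. -/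
theorem isFlatOverAt_fibre_iff (f : X ⟶ Y) (g : Y ⟶ S) (F : X.Modules) {s : S} {ιX : X' ⟶ X} {ιY : Y' ⟶ Y}
    {fs : X' ⟶ Y'} {pY : Y' ⟶ Spec (S.residueField s)} (hY : IsPullback ιY pY g (S.fromSpecResidueField s))
    (hX : IsPullback ιX fs f ιY) (x' : X') :
    FlatMod.IsFlatOverAt fs ((Scheme.Modules.pullback ιX).obj F) x' ↔ ModFibFlat f g F (ιX x') :=
  isFlatOverAt_pullback_iff f g F ιX ιY fs hX.w.symm x' (stalkMap_of_isPullback (hX.paste_vert hY) x').1
    (stalkMap_of_isPullback (hX.paste_vert hY) x').2 (stalkMap_of_isPullback hY (fs x')).1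
    (stalkMap_of_isPullback hY (fs x')).2

/-- Flatness of the restriction to the fibre as a module on the fibre. -/
theorem isFlatAt_fibre_iff (f : X ⟶ S) (F : X.Modules) {s : S} (v : f.fiber s) :
    FlatMod.IsFlatAt ((Scheme.Modules.pullback (f.fiberι s)).obj F) v ↔ ModFibFlat (𝟙 X) f F (f.fiberι s v) := by
  let G := (Scheme.Modules.pullback (f.fiberι s)).obj F
  have h : FlatMod.IsFlatOverAt (𝟙 (f.fiber s)) G v ↔ FlatMod.IsFlatAt G v := by
    have e : FlatMod.moduleStalkOver (𝟙 (f.fiber s)) G v = FlatMod.moduleStalk G v := by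
      refine Module.ext' _ _ fun r m => ?_
      exact congrArg (fun φ => φ.hom r • m) (Scheme.Hom.stalkMap_id (f.fiber s) v)
    show @Module.Flat _ _ _ _ (FlatMod.moduleStalkOver (𝟙 (f.fiber s)) G v) ↔
      @Module.Flat _ _ _ _ (FlatMod.moduleStalk G v)
    rw [e]
    rfl
  exact h.symm.trans (isFlatOverAt_fibre_iff (𝟙 X) f F (IsPullback.of_hasPullback f (S.fromSpecResidueField s))
    (IsPullback.id_vert (f.fiberι s)) v)

end Groth.FlatDescent.FibreFlat
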